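import Cfsg.Agent.Lib.Blocks.PrincipalPPower
import Cfsg.Agent.Lib.Blk83.Irr
import Cfsg.Agent.Lib.Blk83.Weight
import Cfsg.Agent.Lib.BlockReg.Basic
import Cfsg.Agent.Lib.BlockReg.Integral
import Cfsg.Agent.Lib.DefectOne.BlockLink
import Cfsg.Agent.Lib.SmallCofactor.Main

/-!
# Simple groups of order `p q ^ c r ^ d`: no element of order `p q`

In the principal `q`-block every nonprincipal character that is nonzero at an element of order
`p q` has degree prime to `p` and not a power of `q`, hence divisible by `r`; the vanishing of the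
block idempotent at that element is then absurd modulo `r`.
-/

set_option autoImplicit false

namespace CfsgLib.ThreePrimeCent

open Cfsg CfsgLib.BlockReg
open scoped ComplexConjugate

universe u

variable {G : Type u} [Group G] [Finite G]

/-- A divisor of `p * q ^ c * r ^ d` prime to `p` and `r` is a power of `q`. -/
theorem exists_pow_eq {p q r c d m : ℕ} (hp : p.Prime) (hq : q.Prime) (hr : r.Prime)
    (hm : m ∣ p * q ^ c * r ^ d) (hpm : ¬ p ∣ m) (hrm : ¬ r ∣ m) : ∃ k : ℕ, m = q ^ k := by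
  have h1 : m ∣ p * q ^ c :=
    (((hr.coprime_iff_not_dvd.2 hrm).symm).pow_right d).dvd_of_dvd_mul_right hm
  have h2 : m ∣ q ^ c := ((hp.coprime_iff_not_dvd.2 hpm).symm).dvd_of_dvd_mul_left h1
  obtain ⟨k, -, hk⟩ := (Nat.dvd_prime_pow hq).1 h2
  exact ⟨k, hk⟩

/-- No element has order divisible by `p` and `q`. -/
theorem not_dvd_orderOf [IsSimpleGroup G] (hna : ¬ IsMulCommutative G) {p q r c d : ℕ}
    (hp : p.Prime) (hq : q.Prime) (hr : r.Prime) (hpq : p ≠ q) (hpr : p ≠ r)
    (hG : Nat.card G = p * q ^ c * r ^ d) {g : G} (hgp : p ∣ orderOf g) (hgq : q ∣ orderOf g) :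
    False := by
  classical
  haveI := Fact.mk hp
  haveI := Fact.mk hq
  obtain ⟨M, hM⟩ := exists_isPModular hq
  obtain ⟨R, hR⟩ := exists_isPModular hr
  haveI := hM.2.1
  have hex : ∃ a b : G, a * b ≠ b * a := by
    by_contra h
    push Not at h
    exact hna ⟨⟨h⟩⟩
  set B : Set (IrrCharacter G) := principalBlock M G with hBdef
  have hB : IsPBlock M B := CfsgLib.Blocks.isPBlock_principalBlock
  have h0 := CfsgLib.DefectOne.blockCoeff_eq_zero_of_singular hM hB hgq
  rw [CfsgLib.Blocks.blockCoeff_eq_sum] at h0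
  have h1 := (mul_eq_zero.1 h0).resolve_left (inv_ne_zero (Nat.cast_ne_zero.2 Nat.card_pos.ne'))
  have hmem : CfsgLib.Char.principalIrr ∈ B := CfsgLib.Blocks.principalIrr_mem_principalBlock
  rw [← Finset.add_sum_erase _ _ (Finset.mem_univ CfsgLib.Char.principalIrr),
    CfsgLib.Blocks.blockInd, if_pos hmem, CfsgLib.Char.principalIrr_apply,
    CfsgLib.Char.principalIrr_apply, map_one, one_mul, one_mul] at h1
  have hrest : MemLocalIdeal R (∑ χ ∈ Finset.univ.erase CfsgLib.Char.principalIrr,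
      CfsgLib.Blocks.blockInd B χ * ((χ : G → ℂ) 1 * conj ((χ : G → ℂ) g))) := by
    refine memIdeal_sum hR _ fun χ hχ => ?_
    rw [CfsgLib.Blocks.blockInd]
    split_ifs with hχB
    swap
    · rw [zero_mul]; exact memIdeal_zero hR
    rw [one_mul]
    by_cases hχg : (χ : G → ℂ) g = 0
    · rw [hχg, map_zero, mul_zero]; exact memIdeal_zero hR
    have hpd : ¬ p ∣ Cfsg.charDegree (χ : G → ℂ) := by
      intro hdvd
      refine hχg (CfsgLib.Blk83.vanish_of_defect_zero hp χ.2 (le_antisymm ?_ ?_) hgp)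
      · exact (Nat.factorization_le_iff_dvd (CfsgLib.Blk83.deg_pos χ).ne' Nat.card_pos.ne').2
          (CfsgLib.Blk83.deg_dvd χ) p
      · have hcard : (Nat.card G).factorization p = 1 := by
          have hqp : ¬ p ∣ q ^ c := fun h =>
            hpq ((Nat.prime_dvd_prime_iff_eq hp hq).1 (hp.dvd_of_dvd_pow h))
          have hrp : ¬ p ∣ r ^ d := fun h =>
            hpr ((Nat.prime_dvd_prime_iff_eq hp hr).1 (hp.dvd_of_dvd_pow h))
          rw [hG, Nat.factorization_mul (Nat.mul_ne_zero hp.ne_zero (pow_ne_zero _ hq.ne_zero))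
            (pow_ne_zero _ hr.ne_zero), Nat.factorization_mul hp.ne_zero
            (pow_ne_zero _ hq.ne_zero), Finsupp.add_apply, Finsupp.add_apply,
            Nat.Prime.factorization_self hp, Nat.factorization_eq_zero_of_not_dvd hqp,
            Nat.factorization_eq_zero_of_not_dvd hrp]
        rw [hcard]
        exact hp.factorization_pos_of_dvd (CfsgLib.Blk83.deg_pos χ).ne' hdvd
    have hrd : r ∣ Cfsg.charDegree (χ : G → ℂ) := by
      by_contra hrd
      obtain ⟨k, hk⟩ := exists_pow_eq hp hq hr (hG ▸ CfsgLib.Blk83.deg_dvd χ) hpd hrd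
      have := CfsgLib.Blocks.eq_one_of_pow_degree hM hex χ hχB k
        (by rw [CfsgLib.Blk83.one_eq, hk, Nat.cast_pow])
      exact (Finset.mem_erase.1 hχ).1 (Subtype.ext this)
    refine memIdeal_mul_right hR ?_ ?_
    · rw [CfsgLib.Blk83.one_eq]
      exact (memIdeal_natCast_iff hR _).2 hrd
    · rw [← CfsgLib.Char.IsIrrCharacter.apply_inv χ.2]
      exact memRing_char hR χ _
  exact not_memIdeal_one hR (by
    rw [eq_neg_of_add_eq_zero_left h1]
    exact memIdeal_neg hrest)

/-- An element of order `p` in a simple group of order `p 3 ^ a 2 ^ b` is self-centralizing. -/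
theorem centralizer_eq_zpowers [IsSimpleGroup G] {p a b : ℕ} (hp : p.Prime)
    (hG : Nat.card G = p * 3 ^ a * 2 ^ b) (x : G) (hx : orderOf x = p) :
    Subgroup.centralizer ({x} : Set G) = Subgroup.zpowers x := by
  have hle : Subgroup.zpowers x ≤ Subgroup.centralizer ({x} : Set G) :=
    Subgroup.zpowers_le.2 (Subgroup.mem_centralizer_singleton_iff.2 rfl)
  by_cases hc : IsMulCommutative G
  · have hx1 : x ≠ 1 := fun h => hp.ne_one (by rw [← hx, h, orderOf_one])
    haveI : (Subgroup.zpowers x).Normal :=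
      ⟨fun n hn g => by rwa [hc.is_comm.comm g n, mul_inv_cancel_right]⟩
    rcases IsSimpleGroup.eq_bot_or_eq_top_of_normal (Subgroup.zpowers x) inferInstance with h | h
    · exact absurd (Subgroup.zpowers_eq_bot.1 h) hx1
    · exact le_antisymm (h ▸ le_top) hle
  have hns : ¬ Group.IsSolvable G := CfsgLib.SmallCofactor.not_isSolvable hc
  have h3 : p ≠ 3 := fun h => hns (CfsgLib.SmallCofactor.isSolvable_two_primes (a := a + 1) (b := b)
    Nat.prime_three Nat.prime_two (by rw [hG, h, pow_succ']))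
  have h2 : p ≠ 2 := fun h => hns (CfsgLib.SmallCofactor.isSolvable_two_primes (a := a) (b := b + 1)
    Nat.prime_three Nat.prime_two (by rw [hG, h]; ring))
  refine le_antisymm (fun v hv => ?_) hle
  by_contra hvx
  have hlt : Subgroup.zpowers x < Subgroup.centralizer ({x} : Set G) :=
    lt_of_le_of_ne hle fun h => hvx (h ▸ hv)
  obtain ⟨m, hm⟩ := Subgroup.card_dvd_of_le hle
  rw [Nat.card_zpowers, hx] at hm
  have hm1 : m ≠ 1 := fun h => hlt.ne (Subgroup.eq_of_le_of_card_ge hle
    (by rw [hm, h, mul_one, Nat.card_zpowers, hx]))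
  obtain ⟨q, hq, hqm⟩ := Nat.exists_prime_and_dvd hm1
  have hdvd : p * q ∣ p * (3 ^ a * 2 ^ b) := by
    rw [← mul_assoc, ← hG]
    exact (Nat.mul_dvd_mul_left p hqm).trans (hm ▸ Subgroup.card_subgroup_dvd_card _)
  have hq23 : q = 3 ∨ q = 2 := by
    rcases hq.dvd_mul.1 (Nat.dvd_of_mul_dvd_mul_left hp.pos hdvd) with h | h
    · exact Or.inl ((Nat.prime_dvd_prime_iff_eq hq Nat.prime_three).1 (hq.dvd_of_dvd_pow h))
    · exact Or.inr ((Nat.prime_dvd_prime_iff_eq hq Nat.prime_two).1 (hq.dvd_of_dvd_pow h))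
  haveI := Fact.mk hq
  obtain ⟨⟨w, hwc⟩, hwo⟩ := exists_prime_orderOf_dvd_card'
    (G := Subgroup.centralizer ({x} : Set G)) q (hm ▸ dvd_mul_of_dvd_right hqm p)
  rw [Subgroup.orderOf_mk] at hwo
  have hcomm : Commute x w := (Subgroup.mem_centralizer_singleton_iff.1 hwc).symm
  have hpq : p ≠ q := by rcases hq23 with rfl | rfl <;> assumption
  have ho : orderOf (x * w) = p * q := by
    rw [hcomm.orderOf_mul_eq_mul_orderOf_of_coprime (by
      rw [hx, hwo]; exact (Nat.coprime_primes hp hq).2 hpq), hx, hwo]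
  have hgp : p ∣ orderOf (x * w) := ho ▸ dvd_mul_right p q
  have hgq : q ∣ orderOf (x * w) := ho ▸ dvd_mul_left q p
  rcases hq23 with rfl | rfl
  · exact not_dvd_orderOf hc hp hq Nat.prime_two h3 h2 hG hgp hgq
  · exact not_dvd_orderOf hc hp hq Nat.prime_three h2 h3 (c := b) (d := a)
      (by rw [hG]; ring) hgp hgq

end CfsgLib.ThreePrimeCent
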